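import Cfsg.Agent.Helper28.C1681.Data

set_option autoImplicit false

namespace Cfsg.Agent.Helper28.C1681

theorem rows_32 : Cfsg.Agent.Helper28.ptChunk (Cfsg.Agent.Helper28.rowChk D) 28417 512 32 = true := by decide +kernel

theorem rows_33 : Cfsg.Agent.Helper28.ptChunk (Cfsg.Agent.Helper28.rowChk D) 28417 512 33 = true := by decide +kernel

theorem rows_34 : Cfsg.Agent.Helper28.ptChunk (Cfsg.Agent.Helper28.rowChk D) 28417 512 34 = true := by decide +kernel

theorem rows_35 : Cfsg.Agent.Helper28.ptChunk (Cfsg.Agent.Helper28.rowChk D) 28417 512 35 = true := by decide +kernel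

theorem rows_36 : Cfsg.Agent.Helper28.ptChunk (Cfsg.Agent.Helper28.rowChk D) 28417 512 36 = true := by decide +kernel

theorem rows_37 : Cfsg.Agent.Helper28.ptChunk (Cfsg.Agent.Helper28.rowChk D) 28417 512 37 = true := by decide +kernel

theorem rows_38 : Cfsg.Agent.Helper28.ptChunk (Cfsg.Agent.Helper28.rowChk D) 28417 512 38 = true := by decide +kernel

theorem rows_39 : Cfsg.Agent.Helper28.ptChunk (Cfsg.Agent.Helper28.rowChk D) 28417 512 39 = true := by decide +kernel

end Cfsg.Agent.Helper28.C1681
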